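import Groth.Agent.CAlgH.KoszulRegular
import Groth.Agent.FlatMorKoszul.Quot
import Groth.Agent.CAlgH.KoszulH1
import Mathlib.RingTheory.Regular.RegularSequence
import Mathlib.RingTheory.Polynomial.Quotient

/-!
# A Koszul regular sequence becomes regular after generic triangular combination
-/

set_option autoImplicit false
set_option backward.isDefEq.respectTransparency false

universe u

open Groth.Agent.Disc12.Koszul Groth.Agent.CAlgH.KoszulRegular RingTheory.Sequence

namespace Groth.Agent.KoszulGenericH2

variable {R : Type u} [CommRing R]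

theorem d_mem {n : ℕ} (f : Fin n → R) (p : ℕ) (x : K R n (p + 1)) :
    d f p x ∈ Ideal.span (Set.range f) • (⊤ : Submodule R (K R n p)) := by
  classical
  have hf : functional f = ∑ i, f i • LinearMap.proj i := by
    refine LinearMap.ext fun v => ?_
    simp [mul_comm]
  have h : d f p x = ∑ i, f i •
      (D (LinearMap.proj i : (Fin n → R) →ₗ[R] R)).restrict (fun _ hy => D_mem _ p hy) x := by
    refine Subtype.ext ?_
    show D (functional f) (x : ExteriorAlgebra R (Fin n → R)) = _
    rw [hf, Submodule.coe_sum]
    simp [D, map_sum, map_smul]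
  rw [h]
  exact Submodule.sum_mem _ fun i _ => Submodule.smul_mem_smul (Ideal.subset_span ⟨i, rfl⟩) trivial

/-- The ideal of a non-empty Koszul regular sequence has zero annihilator. -/
theorem eq_zero_of_kill {n : ℕ} {f : Fin (n + 1) → R} (h : KReg f) (c : R) (hc : ∀ i, c * f i = 0) : c = 0 := by
  have h0 : d f n (c • top) = 0 := by
    rw [map_smul]
    refine Submodule.smul_induction_on (p := fun z => c • z = 0) (d_mem f n top) (fun a ha z _ => ?_)
      fun a b ha hb => by rw [smul_add, ha, hb, add_zero]
    have : c * a = 0 := by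
      induction ha using Submodule.span_induction with
      | mem y hy => obtain ⟨i, rfl⟩ := hy; exact hc i
      | zero => rw [mul_zero]
      | add y z _ _ hy hz => rw [mul_add, hy, hz, add_zero]
      | smul a y _ hy => rw [smul_eq_mul, mul_left_comm, hy, mul_zero]
    rw [smul_smul, this, zero_smul]
  obtain ⟨z, hz⟩ := (h n _).1 h0
  haveI : Subsingleton (K R (n + 1) (n + 1 + 1)) := subsingleton_K (Nat.lt_succ_self _)
  rw [Subsingleton.elim z 0, map_zero] at hz
  obtain ⟨ε, hε⟩ := exists_coord_top (R := R) (n := n + 1)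
  simpa [hε] using (congrArg ε hz).symm

open Polynomial in
theorem nzd_generic {n : ℕ} {f : Fin (n + 1) → R} (h : KReg f) :
    ∀ p : R[X], p * ∑ i : Fin (n + 1), C (f i) * X ^ (i : ℕ) = 0 → p = 0 := by
  intro p hp
  have hmem : (∑ i : Fin (n + 1), C (f i) * X ^ (i : ℕ)) ∈ nonZeroDivisors R[X] := by
    refine Polynomial.mem_nonZeroDivisors_iff.2 fun a ha => eq_zero_of_kill h a fun i => ?_
    have := congrArg (fun q : R[X] => q.coeff (i : ℕ)) ha
    simpa [Polynomial.finset_sum_coeff, Polynomial.coeff_C_mul_X_pow, Fin.val_inj] using this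
  exact (mem_nonZeroDivisors_iff_right.1 hmem) p hp

theorem isWeaklyRegular_iff_mem (rs : List R) :
    IsWeaklyRegular R rs ↔
      ∀ i : Fin rs.length, ∀ x, rs[i] * x ∈ Ideal.ofList (rs.take i) → x ∈ Ideal.ofList (rs.take i) := by
  rw [isWeaklyRegular_iff_Fin]
  refine forall_congr' fun i => ?_
  rw [isSMulRegular_quotient_iff_mem_of_smul_mem]
  simp only [smul_eq_mul, Ideal.mul_top]

/-- Weak regularity of a sequence whose first member cuts out a given surjection. -/
theorem isWeaklyRegular_cons_of_surjective {Q : Type u} [CommRing Q] (π : R →+* Q) (hπ : Function.Surjective π)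
    {g : R} (hg : ∀ x, g * x = 0 → x = 0) (hker : RingHom.ker π = Ideal.span {g}) (hs : List R)
    (h : IsWeaklyRegular Q (hs.map π)) : IsWeaklyRegular R (g :: hs) := by
  rw [isWeaklyRegular_iff_mem] at h ⊢
  rintro ⟨i, hi⟩ x hx
  cases i with
  | zero =>
    simp only [List.take_zero, Ideal.ofList_nil, Submodule.mem_bot] at hx ⊢
    exact hg x hx
  | succ i =>
    have hc : ∀ y : R, y ∈ Ideal.ofList ((g :: hs).take (i + 1)) ↔ π y ∈ Ideal.ofList ((hs.map π).take i) := fun y => by
      rw [List.take_succ_cons, Ideal.ofList_cons, ← List.map_take, ← Ideal.map_ofList, ← Ideal.mem_comap,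
        Ideal.comap_map_of_surjective π hπ, ← RingHom.ker_eq_comap_bot, hker, sup_comm]
    have hi' : i < hs.length := by simpa using hi
    rw [hc] at hx ⊢
    refine h ⟨i, by simpa using hi'⟩ (π x) ?_
    simpa using hx

set_option maxHeartbeats 800000 in
/-- A Koszul regular sequence becomes, after a polynomial extension and a change of generators, regular. -/
theorem exists_regular_generators : ∀ (n : ℕ) {A : Type u} [CommRing A] (f : Fin n → A), KReg f →
    ∃ (m : ℕ) (hs : List (MvPolynomial (Fin m) A)),
      IsWeaklyRegular (MvPolynomial (Fin m) A) hs ∧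
        Ideal.ofList hs = (Ideal.span (Set.range f)).map MvPolynomial.C := by
  intro n
  induction n with
  | zero =>
    intro A _ f _
    exact ⟨0, [], IsWeaklyRegular.nil _ _, by simp [Set.range_eq_empty]⟩
  | succ n ih =>
    intro A _ f hf
    let T := Polynomial A
    let g : T := ∑ i : Fin (n + 1), Polynomial.C (f i) * Polynomial.X ^ (i : ℕ)
    let Cf : Fin (n + 1) → T := fun i => Polynomial.C (f i)
    let gs : Fin (n + 1) → T := Fin.append (fun i : Fin n => Cf i.succ) (fun _ : Fin 1 => g)
    have hspan : Ideal.span (Set.range gs) = Ideal.span (Set.range Cf) := by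
      refine le_antisymm (Ideal.span_le.2 ?_) (Ideal.span_le.2 ?_)
      · rintro _ ⟨i, rfl⟩
        induction i using Fin.addCases with
        | left i => simp only [gs, Fin.append_left]; exact Ideal.subset_span ⟨_, rfl⟩
        | right i =>
          simp only [gs, Fin.append_right]
          exact Submodule.sum_mem _ fun j _ => Ideal.mul_mem_right _ _ (Ideal.subset_span ⟨j, rfl⟩)
      · have hsucc : ∀ i : Fin n, Cf i.succ ∈ Ideal.span (Set.range gs) := fun i =>
          Ideal.subset_span ⟨Fin.castAdd 1 i, Fin.append_left _ _ _⟩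
        rintro _ ⟨i, rfl⟩
        cases i using Fin.cases with
        | succ i => exact hsucc i
        | zero =>
          have he : Cf 0 = g - ∑ i : Fin n, Cf i.succ * Polynomial.X ^ ((i.succ : Fin (n + 1)) : ℕ) := by
            simp [g, Cf, Fin.sum_univ_succ]
          rw [he]
          exact sub_mem (Ideal.subset_span ⟨Fin.natAdd n 0, Fin.append_right _ _ _⟩)
            (Submodule.sum_mem _ fun i _ => Ideal.mul_mem_right _ _ (hsucc i))
    have hCf : KReg Cf := hf.map (S := T)
    have hgs : KReg gs := kreg_of_span_eq hCf hspan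
    have hg0 : ∀ x : T, g * x = 0 → x = 0 := fun x hx => nzd_generic hf x (by rw [mul_comm]; exact hx)
    have hk1 : KReg (fun _ : Fin 1 => g) := by
      refine CAlgH.KoszulH1.kreg_of_isWeaklyRegular ?_
      rw [List.ofFn_succ, List.ofFn_zero, isWeaklyRegular_cons_iff]
      exact ⟨fun a b hab => sub_eq_zero.1 (hg0 _ (by rw [mul_sub]; exact sub_eq_zero.2 hab)), IsWeaklyRegular.nil _ _⟩
    let Q := T ⧸ Ideal.span {g}
    have hQ : KReg fun i : Fin n => Ideal.Quotient.mk (Ideal.span {g}) (Cf i.succ) :=
      FlatMorKoszul.kreg_of_append Ideal.Quotient.mk_surjective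
        (by rw [Ideal.mk_ker, Set.range_const]) hk1 hgs
    obtain ⟨m, hs, hreg, hid⟩ := ih _ hQ
    let π₀ : MvPolynomial (Fin m) T →+* MvPolynomial (Fin m) Q := MvPolynomial.map (Ideal.Quotient.mk _)
    have hπ₀ : Function.Surjective π₀ := MvPolynomial.map_surjective _ Ideal.Quotient.mk_surjective
    have hker₀ : RingHom.ker π₀ = Ideal.span {MvPolynomial.C g} := by
      rw [MvPolynomial.ker_map, Ideal.mk_ker, Ideal.map_span, Set.image_singleton]
    have hCg : ∀ x : MvPolynomial (Fin m) T, MvPolynomial.C g * x = 0 → x = 0 := fun x hx => by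
      refine MvPolynomial.ext _ _ fun d => ?_
      rw [MvPolynomial.coeff_zero]
      refine hg0 _ ?_
      rw [← MvPolynomial.coeff_C_mul, hx, MvPolynomial.coeff_zero]
    let hs' : List (MvPolynomial (Fin m) T) := hs.map (Function.surjInv hπ₀)
    have hs'map : hs'.map π₀ = hs := by
      rw [List.map_map, show π₀ ∘ Function.surjInv hπ₀ = id from funext (Function.surjInv_eq hπ₀), List.map_id]
    have hw : IsWeaklyRegular (MvPolynomial (Fin m) T) (MvPolynomial.C g :: hs') :=
      isWeaklyRegular_cons_of_surjective (Q := MvPolynomial (Fin m) Q) π₀ hπ₀ hCg hker₀ hs' (by rw [hs'map]; exact hreg)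
    have hidT : Ideal.ofList (MvPolynomial.C g :: hs') =
        (Ideal.span (Set.range Cf)).map (MvPolynomial.C : T →+* MvPolynomial (Fin m) T) := by
      have hgI : Ideal.span {g} ≤ Ideal.span (Set.range Cf) := by
        rw [← hspan, Ideal.span_singleton_le_iff_mem]
        exact Ideal.subset_span ⟨Fin.natAdd n 0, Fin.append_right _ _ _⟩
      have hcomap : (Ideal.ofList hs).comap π₀ = Ideal.span {MvPolynomial.C g} ⊔ Ideal.ofList hs' := by
        rw [← hs'map, ← Ideal.map_ofList, Ideal.comap_map_of_surjective π₀ hπ₀, ← RingHom.ker_eq_comap_bot, hker₀,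
          sup_comm]
      rw [Ideal.ofList_cons, ← hcomap, hid]
      have e : (Ideal.span (Set.range fun i : Fin n => Ideal.Quotient.mk (Ideal.span {g}) (Cf i.succ))).map
          (MvPolynomial.C : Q →+* MvPolynomial (Fin m) Q) =
          ((Ideal.span (Set.range fun i : Fin n => Cf i.succ)).map MvPolynomial.C).map π₀ := by
        rw [Ideal.map_span, Ideal.map_span, Ideal.map_span, ← Set.range_comp, ← Set.range_comp, ← Set.range_comp]
        congr 1
        congr 1
        funext i
        exact (MvPolynomial.map_C (Ideal.Quotient.mk (Ideal.span {g})) (Cf i.succ)).symm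
      rw [e, Ideal.comap_map_of_surjective π₀ hπ₀, ← RingHom.ker_eq_comap_bot, hker₀,
        show Ideal.span {MvPolynomial.C g} = (Ideal.span {g}).map
          (MvPolynomial.C : T →+* MvPolynomial (Fin m) T) by rw [Ideal.map_span, Set.image_singleton], ← Ideal.map_sup]
      congr 1
      refine le_antisymm (sup_le (Ideal.span_mono ?_) hgI) ?_
      · rintro _ ⟨i, rfl⟩
        exact ⟨i.succ, rfl⟩
      · rw [← hspan, ← Ideal.span_union]
        refine Ideal.span_mono ?_
        rintro _ ⟨i, rfl⟩
        induction i using Fin.addCases with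
        | left i => simp only [gs, Fin.append_left]; exact Or.inl ⟨i, rfl⟩
        | right i => simp only [gs, Fin.append_right]; exact Or.inr rfl
    let e : MvPolynomial (Fin m) T ≃ₐ[A] MvPolynomial (Fin (m + 1)) A :=
      (MvPolynomial.optionEquivRight A (Fin m)).symm.trans (MvPolynomial.renameEquiv A (finSuccEquiv m).symm)
    refine ⟨m + 1, (MvPolynomial.C g :: hs').map e.toRingEquiv.toRingHom, ?_, ?_⟩
    · let _ := e.toRingEquiv.toRingHom.toAlgebra
      have : Module.Flat (MvPolynomial (Fin m) T) (MvPolynomial (Fin (m + 1)) A) :=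
        RingHom.Flat.of_bijective (f := e.toRingEquiv.toRingHom) e.bijective
      exact hw.of_flat
    · rw [← Ideal.map_ofList, hidT, Ideal.map_map, Ideal.map_span, Ideal.map_span, ← Set.range_comp,
        ← Set.range_comp]
      congr 1
      congr 1
      funext i
      show e (MvPolynomial.C (Polynomial.C (f i))) = MvPolynomial.C (f i)
      exact e.commutes (f i)

end Groth.Agent.KoszulGenericH2
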