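import Groth.Agent.KoszulGenericH2.Algebra
import Groth.Agent.TransLimH2.RegularLimit

/-!
# Koszul regular immersions become regular after a smooth surjective base change
-/

set_option autoImplicit false
set_option backward.isDefEq.respectTransparency false

universe u

open CategoryTheory Limits AlgebraicGeometry TopologicalSpace RingTheory.Sequence Groth.Agent.CAlgH.KoszulRegular

namespace Groth.Agent.KoszulGenericH2

/-- A regular chart on an open subscheme gives one downstairs. -/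
theorem regAt_of_isOpenImmersion {Y' X' Y X : Scheme.{u}} {i : Y ⟶ X} {i' : Y' ⟶ X'} {j : X' ⟶ X} {j' : Y' ⟶ Y}
    [IsOpenImmersion j] [IsClosedImmersion i] (hsq : IsPullback j' i' i j) {U : X'.Opens} (hU : IsAffineOpen U)
    (rs : List Γ(X', U)) (hrs : IsWeaklyRegular Γ(X', U) rs) (hker : RingHom.ker (i'.app U).hom = Ideal.ofList rs)
    (z : Y') (hz : i' z ∈ U) : RegImm.IsRegularImmersionAt RegImm.Kind.regular i (j' z) := by
  have hV : IsAffineOpen (j ''ᵁ U) := hU.image_of_isOpenImmersion j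
  have : IsClosedImmersion (i ∣_ j ''ᵁ U) := IsZariskiLocalAtTarget.restrict ‹_› _
  obtain ⟨-, h2⟩ := CAlgH.KoszulChart.baseChange i j i' j' hsq hV hU (j.preimage_image_eq U).ge
  rw [← Scheme.Hom.appIso_hom'] at h2
  let e := (j.appIso U).commRingCatIsoToRingEquiv
  have h3 : RingHom.ker (i.app (j ''ᵁ U)).hom = Ideal.ofList (rs.map e.symm.toRingHom) := by
    rw [← Ideal.map_ofList, ← hker, h2]
    exact (Ideal.map_of_equiv e).symm
  let _ := e.symm.toRingHom.toAlgebra
  have : Module.Flat Γ(X', U) Γ(X, j ''ᵁ U) :=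
    RingHom.Flat.of_bijective (f := e.symm.toRingHom) e.symm.bijective
  refine TransLimH2.regChart_baseChange (g := 𝟙 _) (g' := 𝟙 _) IsPullback.of_id_fst hV hV le_rfl _
    hrs.of_flat h3 (j' z) ?_
  rw [← Scheme.Hom.comp_apply, hsq.w, Scheme.Hom.comp_apply]
  exact ⟨i' z, hz, rfl⟩

theorem appLE_SpecMap_fromSpec {X : Scheme.{u}} {V : X.Opens} (hV : IsAffineOpen V) {P : CommRingCat.{u}}
    (φ : Γ(X, V) ⟶ P) (e : (⊤ : (Spec P).Opens) ≤ (Spec.map φ ≫ hV.fromSpec) ⁻¹ᵁ V) :
    (Spec.map φ ≫ hV.fromSpec).appLE V ⊤ e = φ ≫ (Scheme.ΓSpecIso P).inv := by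
  have h1 : (⊤ : (Spec Γ(X, V)).Opens) ≤ hV.fromSpec ⁻¹ᵁ V := hV.fromSpec_preimage_self.ge
  rw [← Scheme.Hom.appLE_comp_appLE (Spec.map φ) hV.fromSpec V ⊤ ⊤ h1 le_rfl]
  have h2 : hV.fromSpec.appLE V ⊤ h1 = (Scheme.ΓSpecIso Γ(X, V)).inv := by
    rw [Scheme.Hom.appLE, hV.fromSpec_app_of_le V le_rfl]
    simp only [Category.assoc, ← Functor.map_comp]
    rw [show X.presheaf.map (homOfLE (le_refl V)).op = 𝟙 _ from by simp, Category.id_comp]
    convert Category.comp_id _
    exact (Spec Γ(X, V)).presheaf.map_id _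
  rw [h2, Scheme.ΓSpecIso_inv_naturality]
  congr 1

theorem exists_cover_data {Z X : Scheme.{u}} (i : Z ⟶ X) [IsClosedImmersion i]
    (hi : RegImm.IsRegularImmersion RegImm.Kind.koszul i) (x : X) :
    ∃ (V : X.Opens) (_ : IsAffineOpen V) (m : ℕ) (hs : List (MvPolynomial (Fin m) Γ(X, V))),
      x ∈ V ∧ IsWeaklyRegular (MvPolynomial (Fin m) Γ(X, V)) hs ∧
        ∀ z : Z, i z ∈ V → Ideal.ofList hs = (RingHom.ker (i.app V).hom).map MvPolynomial.C := by
  by_cases hx : x ∈ Set.range i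
  · obtain ⟨z, rfl⟩ := hx
    obtain ⟨⟨V, hV⟩, hzV, -, rs, hrs, hker⟩ := hi.2 z
    have hk : KReg rs.get := by
      rw [← isKoszulRegularSeq_iff, List.ofFn_get]
      exact hrs
    obtain ⟨m, hs, h1, h2⟩ := exists_regular_generators rs.length rs.get hk
    refine ⟨V, hV, m, hs, hzV, h1, fun _ _ => ?_⟩
    rw [h2, hker, Ideal.ofList, Set.range_list_get]
  · obtain ⟨V, hV, hxV, hle⟩ := exists_isAffineOpen_mem_and_subset (x := x)
      (U := ⟨(Set.range i)ᶜ, i.isClosedEmbedding.isClosed_range.isOpen_compl⟩) hx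
    exact ⟨V, hV, 0, [], hxV, IsWeaklyRegular.nil _ _, fun z hz => absurd ⟨z, rfl⟩ (hle hz)⟩

set_option maxHeartbeats 800000 in
theorem main {Z X : Scheme.{u}} (i : Z ⟶ X) [IsClosedImmersion i]
    (hi : RegImm.IsRegularImmersion RegImm.Kind.koszul i) :
    ∃ (X' : Scheme.{u}) (g : X' ⟶ X), Smooth g ∧ Surjective g ∧
      RegImm.IsRegularImmersion RegImm.Kind.regular (pullback.snd i g) := by
  choose V hV m hs hxV hreg hker using exists_cover_data i hi
  let P : X → CommRingCat.{u} := fun x => CommRingCat.of (MvPolynomial (Fin (m x)) Γ(X, V x))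
  let φ : ∀ x, Γ(X, V x) ⟶ P x := fun x => CommRingCat.ofHom MvPolynomial.C
  let gx : ∀ x, Spec (P x) ⟶ X := fun x => Spec.map (φ x) ≫ (hV x).fromSpec
  have hsm : ∀ x, Smooth (gx x) := fun x => by
    have : Smooth (Spec.map (φ x)) := by
      rw [HasRingHomProperty.Spec_iff (P := @Smooth)]
      show RingHom.Smooth (algebraMap Γ(X, V x) (MvPolynomial (Fin (m x)) Γ(X, V x)))
      rw [RingHom.smooth_algebraMap]
      exact ⟨inferInstance, inferInstance⟩
    infer_instance
  refine ⟨∐ fun x => Spec (P x), Sigma.desc gx, IsZariskiLocalAtSource.sigmaDesc (P := @Smooth) hsm, ⟨fun x => ?_⟩,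
    inferInstance, fun y => ?_⟩
  · let p := (hV x).primeIdealOf ⟨x, hxV x⟩
    refine ⟨Sigma.ι (fun x => Spec (P x)) x
      (Spec.map (CommRingCat.ofHom (MvPolynomial.constantCoeff (R := Γ(X, V x)) (σ := Fin (m x)))) p), ?_⟩
    have hcomp : Sigma.ι (fun x => Spec (P x)) x ≫ Sigma.desc gx = gx x := Sigma.ι_desc _ _
    rw [← Scheme.Hom.comp_apply, hcomp, ← Scheme.Hom.comp_apply]
    have h0 : Spec.map (CommRingCat.ofHom (MvPolynomial.constantCoeff (R := Γ(X, V x)) (σ := Fin (m x)))) ≫ gx x =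
        (hV x).fromSpec := by
      show Spec.map _ ≫ Spec.map (φ x) ≫ _ = _
      rw [← Category.assoc, ← Spec.map_comp, ← CommRingCat.ofHom_comp,
        show (MvPolynomial.constantCoeff (R := Γ(X, V x)) (σ := Fin (m x))).comp MvPolynomial.C = RingHom.id _ from
          RingHom.ext fun a => MvPolynomial.constantCoeff_C _ a]
      simp
      exact Category.id_comp _
    rw [h0]
    exact (hV x).fromSpec_primeIdealOf _
  · obtain ⟨x, p, hp⟩ := (sigmaOpenCover fun x => Spec (P x)).exists_eq (pullback.snd i (Sigma.desc gx) y)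
    let ι : Spec (P x) ⟶ ∐ fun x => Spec (P x) := Sigma.ι (fun x => Spec (P x)) x
    have hι : ι ≫ Sigma.desc gx = gx x := Sigma.ι_desc _ _
    let j' : pullback i (gx x) ⟶ pullback i (Sigma.desc gx) :=
      pullback.lift (pullback.fst _ _) (pullback.snd _ _ ≫ ι) (by rw [Category.assoc, hι, pullback.condition])
    have hsq : IsPullback j' (pullback.snd i (gx x)) (pullback.snd i (Sigma.desc gx)) ι := by
      refine IsPullback.of_right ?_ (pullback.lift_snd _ _ _) (IsPullback.of_hasPullback i (Sigma.desc gx))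
      rw [pullback.lift_fst, hι]
      exact IsPullback.of_hasPullback i (gx x)
    obtain ⟨z, hz₁, hz₂⟩ := Scheme.Pullback.exists_preimage_pullback y p hp.symm
    let w := hsq.isoPullback.inv z
    have hw : j' w = y := by
      rw [← Scheme.Hom.comp_apply, hsq.isoPullback_inv_fst]
      exact hz₁
    rw [← hw]
    have hmem : i (pullback.fst i (gx x) w) ∈ V x := by
      rw [← Scheme.Hom.comp_apply, pullback.condition, Scheme.Hom.comp_apply, Scheme.Hom.comp_apply]
      rw [← SetLike.mem_coe, ← (hV x).range_fromSpec]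
      exact ⟨_, rfl⟩
    have e : (⊤ : (Spec (P x)).Opens) ≤ gx x ⁻¹ᵁ V x := fun q _ => by
      show (Spec.map (φ x) ≫ (hV x).fromSpec) q ∈ V x
      rw [Scheme.Hom.comp_apply, ← SetLike.mem_coe, ← (hV x).range_fromSpec]
      exact ⟨_, rfl⟩
    have : IsClosedImmersion (i ∣_ V x) := IsZariskiLocalAtTarget.restrict ‹_› _
    obtain ⟨-, h2⟩ := CAlgH.KoszulChart.baseChange i (gx x) (pullback.snd i (gx x)) (pullback.fst i (gx x))
      (IsPullback.of_hasPullback i (gx x)) (hV x) (isAffineOpen_top (Spec (P x))) e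
    rw [appLE_SpecMap_fromSpec (hV x) (φ x), CommRingCat.hom_comp, ← Ideal.map_map] at h2
    change _ = ((RingHom.ker (i.app (V x)).hom).map MvPolynomial.C).map _ at h2
    rw [← hker x _ hmem, Ideal.map_ofList] at h2
    refine regAt_of_isOpenImmersion hsq (isAffineOpen_top _) _ ?_ h2 w trivial
    let _ := (Scheme.ΓSpecIso (P x)).inv.hom.toAlgebra
    have : Module.Flat (P x) Γ(Spec (P x), ⊤) :=
      RingHom.Flat.of_bijective (f := (Scheme.ΓSpecIso (P x)).inv.hom) (ConcreteCategory.bijective_of_isIso _)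
    exact IsWeaklyRegular.of_flat (R := P x) (S := Γ(Spec (P x), ⊤)) (hreg x)

end Groth.Agent.KoszulGenericH2
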